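import Mathlib.RingTheory.DividedPowers.RatAlgebra
import Mathlib.RingTheory.MvPolynomial.Basic
import Mathlib.Tactic.Ring
import Mathlib.Tactic.LinearCombination

/-!
# Divided powers from generators

If a family `d` is additive and homogeneous in the divided power sense on an ideal, the product and
composition rules need only be checked on generators: both rules pass to sums by comparison with the
divided powers of `ℚ[U, V]`.
-/

set_option autoImplicit false
set_option maxHeartbeats 400000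
set_option linter.style.haveILetI false

universe u

open Finset

namespace Groth.Agent.DPowLib

noncomputable section

variable {A : Type u} [CommRing A]

/-- Both rules at `x`. -/
def Rules (d : ℕ → A → A) (x : A) : Prop :=
  (∀ m n, d m x * d n x = (m + n).choose m * d (m + n) x) ∧
    ∀ m n, n ≠ 0 → d m (d n x) = Nat.uniformBell m n * d (m * n) x

local notation "Q2" => MvPolynomial (Fin 2) ℚ

/-- Divided powers on `ℚ[U, V]`. -/
def qdp : DividedPowers (⊤ : Ideal Q2) :=
  letI := Classical.decPred (fun x : Q2 => x ∈ (⊤ : Ideal Q2))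
  DividedPowers.RatAlgebra.dividedPowers (⊤ : Ideal Q2)

/-- `d` is additive and homogeneous on `I`. -/
structure PreDP (I : Ideal A) (d : ℕ → A → A) : Prop where
  zero : ∀ x ∈ I, d 0 x = 1
  one : ∀ x ∈ I, d 1 x = x
  mem : ∀ (n : ℕ) (x : A), n ≠ 0 → x ∈ I → d n x ∈ I
  add : ∀ (n : ℕ) (x y : A), x ∈ I → y ∈ I → d n (x + y) = (antidiagonal n).sum fun k => d k.1 x * d k.2 y
  mul : ∀ (n : ℕ) (a x : A), x ∈ I → d n (a * x) = a ^ n * d n x

variable {I : Ideal A} {d : ℕ → A → A}

theorem PreDP.d_zero (h : PreDP I d) {n : ℕ} (hn : n ≠ 0) : d n 0 = 0 := by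
  have := h.mul n 0 0 I.zero_mem
  rwa [zero_mul, zero_pow hn, zero_mul] at this

/-- Divided powers on pairs. -/
def gd (d : ℕ → A → A) (k : ℕ) (v : Q2 × A) : Q2 × A := (qdp.dpow k v.1, d k v.2)

variable (d) in
/-- The pairs attached to the monomials in `x`, `y`. -/
def gen (x y : A) (ab : ℕ × ℕ) : Q2 × A :=
  gd d ab.1 (MvPolynomial.X 0, x) * gd d ab.2 (MvPolynomial.X 1, y)

variable (d) in
/-- The span of the monomials (of positive degree if `pos`). -/
def S (x y : A) (pos : Bool) : AddSubmonoid (Q2 × A) :=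
  AddSubmonoid.closure {v | ∃ ab : ℕ × ℕ, (pos = true → ab ≠ 0) ∧ v = gen d x y ab}

theorem gen_fst (x y : A) (ab : ℕ × ℕ) : (gen d x y ab).1 =
    MvPolynomial.monomial (Finsupp.single 0 ab.1 + Finsupp.single 1 ab.2)
      (((ab.1.factorial : ℚ)⁻¹) * ((ab.2.factorial : ℚ)⁻¹)) := by
  have h : ∀ (i : Fin 2) (a : ℕ), qdp.dpow a (MvPolynomial.X i) =
      MvPolynomial.monomial (Finsupp.single i a) ((a.factorial : ℚ)⁻¹) := fun i a => by
    rw [DividedPowers.RatAlgebra.dpow_eq_inv_fact_smul _ qdp Submodule.mem_top,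
      MvPolynomial.X_pow_eq_monomial, MvPolynomial.smul_monomial, smul_eq_mul, mul_one,
      Ring.inverse_eq_inv']
  show qdp.dpow ab.1 (MvPolynomial.X 0) * qdp.dpow ab.2 (MvPolynomial.X 1) = _
  rw [h, h, MvPolynomial.monomial_mul]

/-- The first component determines the second. -/
theorem snd_eq_of_fst_eq {x y : A} {v w : Q2 × A} (hv : v ∈ S d x y false) (hw : w ∈ S d x y false)
    (h : v.1 = w.1) : v.2 = w.2 := by
  classical
  let f₁ : ℕ × ℕ → Q2 := fun ab => (gen d x y ab).1
  let f₂ : ℕ × ℕ → A := fun ab => (gen d x y ab).2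
  have key : ∀ v ∈ S d x y false, ∃ c : ℕ × ℕ →₀ ℕ,
      v.1 = Finsupp.linearCombination ℕ f₁ c ∧ v.2 = Finsupp.linearCombination ℕ f₂ c := by
    intro v hv
    induction hv using AddSubmonoid.closure_induction with
    | mem v hv =>
      obtain ⟨ab, -, rfl⟩ := hv
      exact ⟨Finsupp.single ab 1, by rw [Finsupp.linearCombination_single, one_smul],
        by rw [Finsupp.linearCombination_single, one_smul]⟩
    | zero => exact ⟨0, by rw [map_zero]; rfl, by rw [map_zero]; rfl⟩
    | add v w _ _ hv hw =>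
      obtain ⟨c, hc1, hc2⟩ := hv
      obtain ⟨c', hc1', hc2'⟩ := hw
      exact ⟨c + c', by rw [map_add, ← hc1, ← hc1']; rfl, by rw [map_add, ← hc2, ← hc2']; rfl⟩
  have coe : ∀ (c : ℕ × ℕ →₀ ℕ) (ab : ℕ × ℕ),
      MvPolynomial.coeff (Finsupp.single 0 ab.1 + Finsupp.single 1 ab.2) (Finsupp.linearCombination ℕ f₁ c) =
      (c ab : ℚ) * (((ab.1.factorial : ℚ)⁻¹) * ((ab.2.factorial : ℚ)⁻¹)) := by
    intro c ab
    rw [Finsupp.linearCombination_apply, Finsupp.sum, MvPolynomial.coeff_sum, Finset.sum_eq_single ab]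
    · rw [show f₁ ab = _ from gen_fst x y ab, MvPolynomial.coeff_smul, MvPolynomial.coeff_monomial,
        if_pos rfl, nsmul_eq_mul]
    · intro cd _ hne
      rw [show f₁ cd = _ from gen_fst x y cd, MvPolynomial.coeff_smul, MvPolynomial.coeff_monomial, if_neg,
        smul_zero]
      intro he
      refine hne (Prod.ext ?_ ?_)
      · have := DFunLike.congr_fun he 0
        simpa using this
      · have := DFunLike.congr_fun he 1
        simpa using this
    · intro hnot
      rw [Finsupp.notMem_support_iff.1 hnot, zero_smul, MvPolynomial.coeff_zero]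
  obtain ⟨c, hc1, hc2⟩ := key v hv
  obtain ⟨c', hc1', hc2'⟩ := key w hw
  have hc : c = c' := by
    refine Finsupp.ext fun ab => ?_
    have h1 := coe c ab
    rw [← hc1, h, hc1', coe c' ab] at h1
    have hne : ((ab.1.factorial : ℚ)⁻¹) * ((ab.2.factorial : ℚ)⁻¹) ≠ 0 :=
      mul_ne_zero (inv_ne_zero (Nat.cast_ne_zero.2 (Nat.factorial_ne_zero _)))
        (inv_ne_zero (Nat.cast_ne_zero.2 (Nat.factorial_ne_zero _)))
    exact_mod_cast (mul_right_cancel₀ hne h1).symm
  rw [hc2, hc2', hc]

theorem gd_mul (z : Q2) {x : A} (hx : Rules d x) (a c : ℕ) :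
    gd d a (z, x) * gd d c (z, x) = ((a + c).choose a : Q2 × A) * gd d (a + c) (z, x) := by
  refine Prod.ext ?_ ?_
  · show qdp.dpow a z * qdp.dpow c z = _
    rw [qdp.mul_dpow Submodule.mem_top]
    simp [gd]
  · show d a x * d c x = _
    rw [hx.1 a c]
    simp [gd]

theorem gd_comp (z : Q2) {x : A} (hx : Rules d x) (k : ℕ) {a : ℕ} (ha : a ≠ 0) :
    gd d k (gd d a (z, x)) = (Nat.uniformBell k a : Q2 × A) * gd d (k * a) (z, x) := by
  refine Prod.ext ?_ ?_
  · show qdp.dpow k (qdp.dpow a z) = _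
    rw [qdp.dpow_comp ha Submodule.mem_top]
    simp [gd]
  · show d k (d a x) = _
    rw [hx.2 k a ha]
    simp [gd]

theorem gd_smul (h : PreDP I d) (k : ℕ) (c v : Q2 × A) (hv : v.2 ∈ I) :
    gd d k (c * v) = c ^ k * gd d k v :=
  Prod.ext (qdp.dpow_mul Submodule.mem_top) (h.mul k c.2 v.2 hv)

theorem gd_add (h : PreDP I d) (k : ℕ) (v w : Q2 × A) (hv : v.2 ∈ I) (hw : w.2 ∈ I) :
    gd d k (v + w) = (antidiagonal k).sum fun ij => gd d ij.1 v * gd d ij.2 w := by
  refine Prod.ext ?_ ?_
  · rw [Prod.fst_sum]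
    exact qdp.dpow_add Submodule.mem_top Submodule.mem_top
  · rw [Prod.snd_sum]
    exact h.add k v.2 w.2 hv hw

section closure

variable (h : PreDP I d) {x y : A} (hx : x ∈ I) (hy : y ∈ I) (rx : Rules d x) (ry : Rules d y)

include h hx in
theorem gd_zero : gd d 0 (MvPolynomial.X 0, x) = 1 :=
  Prod.ext (qdp.dpow_zero Submodule.mem_top) (h.zero x hx)

theorem S_le : S d x y true ≤ S d x y false :=
  AddSubmonoid.closure_mono fun _ ⟨ab, _, e⟩ => ⟨ab, by simp, e⟩

include h hx hy in
theorem one_mem_S : (1 : Q2 × A) ∈ S d x y false := by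
  refine AddSubmonoid.subset_closure ⟨(0, 0), by simp, ?_⟩
  have h1 : gd d 0 (MvPolynomial.X 1, y) = 1 := Prod.ext (qdp.dpow_zero Submodule.mem_top) (h.zero y hy)
  show (1 : Q2 × A) = gd d 0 (MvPolynomial.X 0, x) * gd d 0 (MvPolynomial.X 1, y)
  rw [gd_zero h hx, h1, one_mul]

include rx ry in
theorem mul_mem_S {v w : Q2 × A} (hv : v ∈ S d x y false) (hw : w ∈ S d x y false) :
    v * w ∈ S d x y false := by
  induction hv using AddSubmonoid.closure_induction with
  | mem v hv =>
    obtain ⟨⟨a, b⟩, -, rfl⟩ := hv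
    induction hw using AddSubmonoid.closure_induction with
    | mem w hw =>
      obtain ⟨⟨c, e⟩, -, rfl⟩ := hw
      have he : gen d x y (a, b) * gen d x y (c, e) =
          ((a + c).choose a * (b + e).choose b : ℕ) • gen d x y (a + c, b + e) := by
        simp only [gen]
        rw [mul_mul_mul_comm, gd_mul _ rx, gd_mul _ ry, nsmul_eq_mul, Nat.cast_mul]
        ring
      rw [he]
      refine AddSubmonoid.nsmul_mem _ (AddSubmonoid.subset_closure ?_) _
      exact ⟨(a + c, b + e), fun h0 => Bool.noConfusion h0, rfl⟩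
    | zero => rw [mul_zero]; exact zero_mem _
    | add p q _ _ hp hq => rw [mul_add]; exact add_mem hp hq
  | zero => rw [zero_mul]; exact zero_mem _
  | add p q _ _ hp hq => rw [add_mul]; exact add_mem hp hq

include h hx hy rx ry in
theorem pow_mem_S {v : Q2 × A} (hv : v ∈ S d x y false) : ∀ k : ℕ, v ^ k ∈ S d x y false
  | 0 => by rw [pow_zero]; exact one_mem_S h hx hy
  | k + 1 => by rw [pow_succ]; exact mul_mem_S rx ry (pow_mem_S hv k) hv

include h hx hy in
theorem snd_mem {v : Q2 × A} (hv : v ∈ S d x y true) : v.2 ∈ I := by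
  induction hv using AddSubmonoid.closure_induction with
  | mem v hv =>
    obtain ⟨⟨a, b⟩, hab, rfl⟩ := hv
    show d a x * d b y ∈ I
    by_cases ha : a = 0
    · have hb : b ≠ 0 := fun hb => hab rfl (Prod.ext ha hb)
      exact I.mul_mem_left _ (h.mem b y hb hy)
    · exact I.mul_mem_right _ (h.mem a x ha hx)
  | zero => exact I.zero_mem
  | add p q _ _ hp hq => exact I.add_mem hp hq

include h hx hy rx ry in
theorem gd_mem {v : Q2 × A} (hv : v ∈ S d x y true) : ∀ k : ℕ, gd d k v ∈ S d x y false := by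
  induction hv using AddSubmonoid.closure_induction with
  | mem v hv =>
    obtain ⟨⟨a, b⟩, hab, rfl⟩ := hv
    intro k
    have hU : ∀ j, gd d j (MvPolynomial.X 0, x) ∈ S d x y false := fun j => by
      refine AddSubmonoid.subset_closure ⟨(j, 0), by simp, ?_⟩
      have h1 : gd d 0 (MvPolynomial.X 1, y) = 1 := Prod.ext (qdp.dpow_zero Submodule.mem_top) (h.zero y hy)
      show _ = gd d j (MvPolynomial.X 0, x) * gd d 0 (MvPolynomial.X 1, y)
      rw [h1, mul_one]
    have hV : ∀ j, gd d j (MvPolynomial.X 1, y) ∈ S d x y false := fun j => by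
      refine AddSubmonoid.subset_closure ⟨(0, j), by simp, ?_⟩
      show _ = gd d 0 (MvPolynomial.X 0, x) * gd d j (MvPolynomial.X 1, y)
      rw [gd_zero h hx, one_mul]
    show gd d k (gd d a (MvPolynomial.X 0, x) * gd d b (MvPolynomial.X 1, y)) ∈ _
    by_cases ha : a = 0
    · have hb : b ≠ 0 := fun hb => hab rfl (Prod.ext ha hb)
      rw [gd_smul h k _ _ (h.mem b y hb hy), gd_comp _ ry k hb, ← nsmul_eq_mul, mul_smul_comm]
      exact AddSubmonoid.nsmul_mem _ (mul_mem_S rx ry (pow_mem_S h hx hy rx ry (hU a) k) (hV _)) _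
    · rw [mul_comm, gd_smul h k _ _ (h.mem a x ha hx), gd_comp _ rx k ha, ← nsmul_eq_mul, mul_smul_comm]
      exact AddSubmonoid.nsmul_mem _ (mul_mem_S rx ry (pow_mem_S h hx hy rx ry (hV b) k) (hU _)) _
  | zero =>
    intro k
    rcases eq_or_ne k 0 with rfl | hk
    · have : gd d 0 (0 : Q2 × A) = 1 := Prod.ext (qdp.dpow_zero Submodule.mem_top) (h.zero _ I.zero_mem)
      rw [this]
      exact one_mem_S h hx hy
    · have : gd d k (0 : Q2 × A) = 0 := Prod.ext (qdp.dpow_eval_zero hk) (h.d_zero hk)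
      rw [this]
      exact zero_mem _
  | add p q hp hq ihp ihq =>
    intro k
    rw [gd_add h k p q (snd_mem h hx hy hp) (snd_mem h hx hy hq)]
    exact sum_mem fun ij _ => mul_mem_S rx ry (ihp ij.1) (ihq ij.2)

include h hx hy in
theorem sum_gen (n : ℕ) :
    gd d n (MvPolynomial.X 0 + MvPolynomial.X 1, x + y) = (antidiagonal n).sum fun ij => gen d x y ij :=
  gd_add h n (MvPolynomial.X 0, x) (MvPolynomial.X 1, y) hx hy

include h hx hy rx ry in
/-- Both rules pass to sums. -/
theorem rules_add : Rules d (x + y) := by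
  have hG : ∀ n, gd d n (MvPolynomial.X 0 + MvPolynomial.X 1, x + y) ∈ S d x y false := fun n => by
    rw [sum_gen h hx hy]
    exact sum_mem fun ij _ => AddSubmonoid.subset_closure ⟨ij, by simp, rfl⟩
  have hcast : ∀ (c : ℕ) {v : Q2 × A}, v ∈ S d x y false → (c : Q2 × A) * v ∈ S d x y false :=
    fun c v hv => by rw [← nsmul_eq_mul]; exact AddSubmonoid.nsmul_mem _ hv c
  refine ⟨fun m n => ?_, fun m n hn => ?_⟩
  · have he := snd_eq_of_fst_eq (mul_mem_S rx ry (hG m) (hG n)) (hcast ((m + n).choose m) (hG (m + n))) ?_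
    · simpa [gd] using he
    · show qdp.dpow m _ * qdp.dpow n _ = _
      rw [qdp.mul_dpow Submodule.mem_top]
      simp [gd]
  · have hpos : gd d n (MvPolynomial.X 0 + MvPolynomial.X 1, x + y) ∈ S d x y true := by
      rw [sum_gen h hx hy]
      refine sum_mem fun ij hij => AddSubmonoid.subset_closure ⟨ij, fun _ h0 => hn ?_, rfl⟩
      rw [← (Finset.HasAntidiagonal.mem_antidiagonal.1 hij), h0]
      rfl
    have he := snd_eq_of_fst_eq (gd_mem h hx hy rx ry hpos m) (hcast (Nat.uniformBell m n) (hG (m * n))) ?_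
    · simpa [gd] using he
    · show qdp.dpow m (qdp.dpow n _) = _
      rw [qdp.dpow_comp hn Submodule.mem_top]
      simp [gd]

end closure

theorem rules_mul (h : PreDP I d) {x : A} (hx : x ∈ I) (rx : Rules d x) (a : A) : Rules d (a * x) := by
  refine ⟨fun m n => ?_, fun m n hn => ?_⟩
  · rw [h.mul m a x hx, h.mul n a x hx, h.mul (m + n) a x hx, mul_mul_mul_comm, rx.1, pow_add]
    ring
  · rw [h.mul n a x hx, h.mul m _ _ (h.mem n x hn hx), rx.2 m n hn, h.mul (m * n) a x hx, ← pow_mul,
      mul_comm n m]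
    ring

theorem rules_zero (h : PreDP I d) : Rules d 0 := by
  refine ⟨fun m n => ?_, fun m n hn => ?_⟩
  · rcases eq_or_ne m 0 with rfl | hm
    · rw [h.zero 0 I.zero_mem, one_mul, zero_add, Nat.choose_zero_right, Nat.cast_one, one_mul]
    · rw [h.d_zero hm, zero_mul, h.d_zero (by omega), mul_zero]
  · rw [h.d_zero hn]
    rcases eq_or_ne m 0 with rfl | hm
    · rw [h.zero 0 I.zero_mem, zero_mul, h.zero 0 I.zero_mem, Nat.uniformBell_zero_left, Nat.cast_one, mul_one]
    · rw [h.d_zero hm, h.d_zero (Nat.mul_ne_zero hm hn), mul_zero]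

/-- The rules hold on the whole ideal once they hold on generators. -/
theorem rules_of_gens (h : PreDP I d) (G : Set A) (hG : Ideal.span G = I) (hr : ∀ g ∈ G, Rules d g) :
    ∀ x ∈ I, Rules d x := by
  intro x hx
  rw [← hG] at hx
  induction hx using Submodule.span_induction with
  | mem g hg => exact hr g hg
  | zero => exact rules_zero h
  | add a b ha hb iha ihb => exact rules_add h (hG ▸ ha) (hG ▸ hb) iha ihb
  | smul c a ha iha => exact rules_mul h (hG ▸ ha) iha c

/-- **Divided powers from generators.** -/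
theorem exists_of_gens (h : PreDP I d) (hnull : ∀ (n : ℕ) (x : A), x ∉ I → d n x = 0)
    (G : Set A) (hG : Ideal.span G = I) (hr : ∀ g ∈ G, Rules d g) :
    ∃ γ : DividedPowers I, γ.dpow = d :=
  ⟨{ dpow := d
     dpow_null := fun hx => hnull _ _ hx
     dpow_zero := fun hx => h.zero _ hx
     dpow_one := fun hx => h.one _ hx
     dpow_mem := fun hn hx => h.mem _ _ hn hx
     dpow_add := fun hx hy => h.add _ _ _ hx hy
     dpow_mul := fun hx => h.mul _ _ _ hx
     mul_dpow := fun hx => (rules_of_gens h G hG hr _ hx).1 _ _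
     dpow_comp := fun hn hx => (rules_of_gens h G hG hr _ hx).2 _ _ hn }, rfl⟩

end

end Groth.Agent.DPowLib
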