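import Mathlib
import Groth.Agent.DPowLib.Gens

/-!
# Sums and base extensions of divided power structures
-/

set_option autoImplicit false
set_option linter.style.haveILetI false

universe u v

open Finset PowerSeries TensorProduct

namespace Groth.Agent.DPowLib

noncomputable section

variable {A : Type u} [CommRing A]

/-- Divided powers from their exponential series. -/
theorem exists_of_series (I : Ideal A) (E : A → A⟦X⟧)
    (h0 : ∀ x ∈ I, coeff 0 (E x) = 1) (h1 : ∀ x ∈ I, coeff 1 (E x) = x)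
    (hmem : ∀ (n : ℕ) (x : A), n ≠ 0 → x ∈ I → coeff n (E x) ∈ I)
    (hadd : ∀ x ∈ I, ∀ y ∈ I, E (x + y) = E x * E y)
    (hmul : ∀ (a x : A), x ∈ I → E (a * x) = rescale a (E x))
    (G : Set A) (hG : Ideal.span G = I)
    (hr1 : ∀ g ∈ G, ∀ m n, coeff m (E g) * coeff n (E g) = (m + n).choose m * coeff (m + n) (E g))
    (hr2 : ∀ g ∈ G, ∀ m n, n ≠ 0 →
      coeff m (E (coeff n (E g))) = Nat.uniformBell m n * coeff (m * n) (E g)) :
    ∃ γ : DividedPowers I, ∀ (n : ℕ), ∀ x ∈ I, γ.dpow n x = coeff n (E x) := by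
  classical
  let d : ℕ → A → A := fun n x => if x ∈ I then coeff n (E x) else 0
  have hd : ∀ n, ∀ x ∈ I, d n x = coeff n (E x) := fun n x hx => if_pos hx
  have hGI : ∀ g ∈ G, g ∈ I := fun g hg => hG ▸ Ideal.subset_span hg
  have h : PreDP I d :=
    { zero := fun x hx => (hd 0 x hx).trans (h0 x hx)
      one := fun x hx => (hd 1 x hx).trans (h1 x hx)
      mem := fun n x hn hx => by rw [hd n x hx]; exact hmem n x hn hx
      add := fun n x y hx hy => by
        rw [hd n _ (I.add_mem hx hy), hadd x hx y hy, coeff_mul]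
        exact Finset.sum_congr rfl fun k _ => by rw [hd k.1 x hx, hd k.2 y hy]
      mul := fun n a x hx => by
        rw [hd n _ (I.mul_mem_left a hx), hmul a x hx, coeff_rescale, hd n x hx] }
  obtain ⟨γ, hγ⟩ := exists_of_gens h (fun n x hx => if_neg hx) G hG fun g hg =>
    ⟨fun m n => by rw [hd m g (hGI g hg), hd n g (hGI g hg), hd (m + n) g (hGI g hg)]; exact hr1 g hg m n,
      fun m n hn => by
        rw [hd n g (hGI g hg), hd (m * n) g (hGI g hg), hd m _ (hmem n g hn (hGI g hg))]
        exact hr2 g hg m n hn⟩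
  exact ⟨γ, fun n x hx => by rw [hγ]; exact hd n x hx⟩

variable {I : Ideal A} (γ : DividedPowers I)

theorem coeff_exp (n : ℕ) (x : A) : coeff n (γ.exp x) = γ.dpow n x := PowerSeries.coeff_mk _ _

theorem exp_zero' : γ.exp (0 : A) = 1 := by
  ext n
  rw [coeff_exp, coeff_one]
  rcases eq_or_ne n 0 with rfl | hn
  · rw [γ.dpow_zero I.zero_mem, if_pos rfl]
  · rw [γ.dpow_eval_zero hn, if_neg hn]

theorem exp_smul (a : A) {x : A} (hx : x ∈ I) : γ.exp (a * x) = rescale a (γ.exp x) := by
  ext n
  rw [coeff_exp, coeff_rescale, coeff_exp, γ.dpow_mul hx]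

theorem exp_sub {x y : A} (hx : x ∈ I) (hy : y ∈ I) : γ.exp x = γ.exp (x - y) * γ.exp y := by
  rw [← γ.exp_add (I.sub_mem hx hy) hy, sub_add_cancel]

/-- A series whose coefficients multiply like divided powers is exponential. -/
theorem rescale_add_mul {F : A⟦X⟧} (hF : ∀ m n, coeff m F * coeff n F = (m + n).choose m * coeff (m + n) F)
    (a b : A) : rescale (a + b) F = rescale a F * rescale b F := by
  ext N
  rw [coeff_rescale, coeff_mul, (Commute.all a b).add_pow', Finset.sum_mul]
  refine Finset.sum_congr rfl fun k hk => ?_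
  obtain ⟨i, j⟩ := k
  rw [Finset.HasAntidiagonal.mem_antidiagonal] at hk
  subst hk
  rw [coeff_rescale, coeff_rescale, nsmul_eq_mul, mul_mul_mul_comm (a ^ i), hF i j]
  ring

section sup

variable {J : Ideal A} (δ : DividedPowers J)

theorem exists_sup (h : ∀ (n : ℕ) (x : A), x ∈ I ⊓ J → γ.dpow n x = δ.dpow n x) :
    ∃ ε : DividedPowers (I ⊔ J), (∀ (n : ℕ) (x : A), x ∈ I → ε.dpow n x = γ.dpow n x) ∧
      ∀ (n : ℕ) (x : A), x ∈ J → ε.dpow n x = δ.dpow n x := by
  classical
  have hdec : ∀ z ∈ I ⊔ J, ∃ p : A × A, p.1 ∈ I ∧ p.2 ∈ J ∧ p.1 + p.2 = z := fun z hz => by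
    obtain ⟨a, ha, b, hb, e⟩ := Submodule.mem_sup.1 hz
    exact ⟨(a, b), ha, hb, e⟩
  choose p hpI hpJ hp using hdec
  let E : A → A⟦X⟧ := fun z => if hz : z ∈ I ⊔ J then γ.exp (p z hz).1 * δ.exp (p z hz).2 else 1
  have key : ∀ a ∈ I, ∀ b ∈ J, E (a + b) = γ.exp a * δ.exp b := by
    intro a ha b hb
    have hz : a + b ∈ I ⊔ J := Submodule.add_mem_sup ha hb
    show (if hz : a + b ∈ I ⊔ J then _ else _) = _
    rw [dif_pos hz]
    have e := hp (a + b) hz
    set a' := (p (a + b) hz).1
    set b' := (p (a + b) hz).2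
    have hc : a - a' = b' - b := by linear_combination -e
    have hcJ : a - a' ∈ J := hc ▸ J.sub_mem (hpJ _ hz) hb
    have hcI : a - a' ∈ I := I.sub_mem ha (hpI _ hz)
    have hexp : γ.exp (a - a') = δ.exp (a - a') := by
      ext n
      rw [coeff_exp, coeff_exp, h n _ ⟨hcI, hcJ⟩]
    rw [exp_sub γ ha (hpI _ hz), exp_sub δ (hpJ _ hz) hb, ← hc, hexp]
    ring
  have hEI : ∀ a ∈ I, E a = γ.exp a := fun a ha => by
    have h2 := key a ha 0 J.zero_mem
    rwa [add_zero, exp_zero' δ, mul_one] at h2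
  have hEJ : ∀ b ∈ J, E b = δ.exp b := fun b hb => by
    have h2 := key 0 I.zero_mem b hb
    rwa [zero_add, exp_zero' γ, one_mul] at h2
  refine Exists.elim (exists_of_series (I ⊔ J) E ?_ ?_ ?_ ?_ ?_ ((I : Set A) ∪ J) ?_ ?_ ?_) fun ε hε =>
    ⟨ε, fun n x hx => by rw [hε n x (Submodule.mem_sup_left hx), hEI x hx, coeff_exp],
      fun n x hx => by rw [hε n x (Submodule.mem_sup_right hx), hEJ x hx, coeff_exp]⟩
  · intro z hz
    obtain ⟨a, ha, b, hb, rfl⟩ := Submodule.mem_sup.1 hz
    rw [key a ha b hb, coeff_mul, Finset.Nat.antidiagonal_zero, Finset.sum_singleton, coeff_exp, coeff_exp,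
      γ.dpow_zero ha, δ.dpow_zero hb, one_mul]
  · intro z hz
    obtain ⟨a, ha, b, hb, rfl⟩ := Submodule.mem_sup.1 hz
    rw [key a ha b hb, coeff_mul, Finset.Nat.sum_antidiagonal_succ, Finset.Nat.antidiagonal_zero,
      Finset.sum_singleton, coeff_exp, coeff_exp, coeff_exp, coeff_exp,
      γ.dpow_zero ha, δ.dpow_zero hb, zero_add, γ.dpow_one ha, δ.dpow_one hb]
    ring
  · intro n z hn hz
    obtain ⟨a, ha, b, hb, rfl⟩ := Submodule.mem_sup.1 hz
    rw [key a ha b hb, coeff_mul]
    refine Ideal.sum_mem _ fun k hk => ?_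
    rw [coeff_exp, coeff_exp]
    by_cases hk1 : k.1 = 0
    · have : k.2 ≠ 0 := fun h2 => hn (by
        rw [← Finset.HasAntidiagonal.mem_antidiagonal.1 hk, hk1, h2])
      exact Ideal.mul_mem_left _ _ (Submodule.mem_sup_right (δ.dpow_mem this hb))
    · exact Ideal.mul_mem_right _ _ (Submodule.mem_sup_left (γ.dpow_mem hk1 ha))
  · intro z hz w hw
    obtain ⟨a, ha, b, hb, rfl⟩ := Submodule.mem_sup.1 hz
    obtain ⟨a', ha', b', hb', rfl⟩ := Submodule.mem_sup.1 hw
    rw [add_add_add_comm, key _ (I.add_mem ha ha') _ (J.add_mem hb hb'), key a ha b hb, key a' ha' b' hb',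
      γ.exp_add ha ha', δ.exp_add hb hb']
    ring
  · intro c z hz
    obtain ⟨a, ha, b, hb, rfl⟩ := Submodule.mem_sup.1 hz
    rw [mul_add, key _ (I.mul_mem_left c ha) _ (J.mul_mem_left c hb), key a ha b hb, exp_smul γ c ha,
      exp_smul δ c hb, map_mul]
  · rw [Ideal.span_union, Ideal.span_eq, Ideal.span_eq]
  · intro g hg m n
    rcases hg with hg | hg
    · rw [hEI g hg, coeff_exp, coeff_exp, coeff_exp, γ.mul_dpow hg]
    · rw [hEJ g hg, coeff_exp, coeff_exp, coeff_exp, δ.mul_dpow hg]
  · intro g hg m n hn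
    rcases hg with hg | hg
    · rw [hEI g hg, coeff_exp, hEI _ (γ.dpow_mem hn hg), coeff_exp, coeff_exp, γ.dpow_comp hn hg]
    · rw [hEJ g hg, coeff_exp, hEJ _ (δ.dpow_mem hn hg), coeff_exp, coeff_exp, δ.dpow_comp hn hg]

theorem sup_unique {ε ε' : DividedPowers (I ⊔ J)}
    (h1 : ∀ (n : ℕ) (x : A), x ∈ I → ε.dpow n x = ε'.dpow n x)
    (h2 : ∀ (n : ℕ) (x : A), x ∈ J → ε.dpow n x = ε'.dpow n x) : ε = ε' := by
  refine (DividedPowers.dpow_eq_from_gens ε ε' (S := (I : Set A) ∪ J) ?_ ?_).symm
  · rw [Ideal.span_union, Ideal.span_eq, Ideal.span_eq]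
  · intro n a ha
    rcases ha with ha | ha
    · exact h1 n a ha
    · exact h2 n a ha

end sup

section baseChange

variable (B : Type v) [CommRing B] [Algebra A B]

variable (I) in
/-- `I ⊗ B → B`. -/
def mulMap : I ⊗[A] B →ₗ[A] B :=
  TensorProduct.lift ((LinearMap.mul A B).comp ((Algebra.linearMap A B).comp I.subtype))

theorem mulMap_tmul (i : I) (b : B) : mulMap I B (i ⊗ₜ b) = algebraMap A B i * b := rfl

theorem mulMap_lTensor (c : B) (t : I ⊗[A] B) :
    mulMap I B ((LinearMap.mulLeft A c).lTensor I t) = c * mulMap I B t := by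
  induction t using TensorProduct.induction_on with
  | zero => rw [map_zero, map_zero, mul_zero]
  | tmul i b =>
    rw [LinearMap.lTensor_tmul, mulMap_tmul, mulMap_tmul, LinearMap.mulLeft_apply]
    ring
  | add p q hp hq => rw [map_add, map_add, map_add, mul_add, hp, hq]

/-- The image of `exp i` rescaled by `b`. -/
def expBase (i : I) (b : B) : B⟦X⟧ := rescale b (PowerSeries.map (algebraMap A B) (γ.exp (i : A)))

theorem coeff_expBase (i : I) (b : B) (n : ℕ) :
    coeff n (expBase γ B i b) = b ^ n * algebraMap A B (γ.dpow n (i : A)) := by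
  rw [expBase, coeff_rescale, coeff_map, coeff_exp]

/-- The exponential map on `I ⊗ B`. -/
def expTensor : I ⊗[A] B →+ Additive B⟦X⟧ :=
  TensorProduct.liftAddHom
    { toFun := fun i =>
        { toFun := fun b => Additive.ofMul (expBase γ B i b)
          map_zero' := congrArg Additive.ofMul (PowerSeries.ext fun n => by
            rw [coeff_expBase, coeff_one]
            rcases eq_or_ne n 0 with rfl | hn
            · rw [γ.dpow_zero i.2, pow_zero, one_mul, map_one, if_pos rfl]
            · rw [zero_pow hn, zero_mul, if_neg hn])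
          map_add' := fun b b' => congrArg Additive.ofMul (rescale_add_mul (fun m n => by
            simp only [coeff_map, coeff_exp]
            rw [← map_mul, γ.mul_dpow i.2, map_mul, map_natCast]) b b') }
      map_zero' := AddMonoidHom.ext fun b => congrArg Additive.ofMul (by
        rw [expBase, Submodule.coe_zero, exp_zero' γ, map_one, map_one])
      map_add' := fun i i' => AddMonoidHom.ext fun b => congrArg Additive.ofMul (by
        show expBase γ B (i + i') b = expBase γ B i b * expBase γ B i' b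
        rw [expBase, Submodule.coe_add, γ.exp_add i.2 i'.2, map_mul, map_mul]
        rfl) }
    fun r i b => congrArg Additive.ofMul (PowerSeries.ext fun n => by
      rw [coeff_expBase, coeff_expBase, Submodule.coe_smul, smul_eq_mul, γ.dpow_mul i.2, map_mul, map_pow,
        Algebra.smul_def, mul_pow]
      ring)

/-- The exponential series of an element of `I ⊗ B`. -/
def expT (t : I ⊗[A] B) : B⟦X⟧ := Additive.toMul (expTensor γ B t)

theorem expT_zero : expT γ B 0 = 1 := by rw [expT, map_zero]; rfl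

theorem expT_add (s t : I ⊗[A] B) : expT γ B (s + t) = expT γ B s * expT γ B t := by
  rw [expT, map_add]; rfl

theorem expT_tmul (i : I) (b : B) : expT γ B (i ⊗ₜ b) = expBase γ B i b := rfl

theorem expT_lTensor (c : B) (t : I ⊗[A] B) :
    expT γ B ((LinearMap.mulLeft A c).lTensor I t) = rescale c (expT γ B t) := by
  induction t using TensorProduct.induction_on with
  | zero => rw [map_zero, expT_zero, map_one]
  | tmul i b =>
    rw [LinearMap.lTensor_tmul, expT_tmul, expT_tmul, LinearMap.mulLeft_apply]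
    ext n
    rw [coeff_rescale, coeff_expBase, coeff_expBase, mul_pow]
    ring
  | add p q hp hq => rw [map_add, expT_add, expT_add, map_mul, hp, hq]

theorem coeff_expT (t : I ⊗[A] B) : coeff 0 (expT γ B t) = 1 ∧ coeff 1 (expT γ B t) = mulMap I B t ∧
    ∀ n, n ≠ 0 → coeff n (expT γ B t) ∈ I.map (algebraMap A B) := by
  induction t using TensorProduct.induction_on with
  | zero =>
    rw [expT_zero, map_zero]
    exact ⟨by simp, by simp, fun n hn => by rw [coeff_one, if_neg hn]; exact zero_mem _⟩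
  | tmul i b =>
    rw [expT_tmul, mulMap_tmul]
    refine ⟨?_, ?_, fun n hn => ?_⟩
    · rw [coeff_expBase, γ.dpow_zero i.2, pow_zero, one_mul, map_one]
    · rw [coeff_expBase, γ.dpow_one i.2, pow_one, mul_comm]
    · rw [coeff_expBase]
      exact Ideal.mul_mem_left _ _ (Ideal.mem_map_of_mem _ (γ.dpow_mem hn i.2))
  | add p q hp hq =>
    rw [expT_add, map_add]
    refine ⟨?_, ?_, fun n hn => ?_⟩
    · rw [coeff_mul, Finset.Nat.antidiagonal_zero, Finset.sum_singleton, hp.1, hq.1, one_mul]
    · rw [coeff_mul, Finset.Nat.sum_antidiagonal_succ, Finset.Nat.antidiagonal_zero, Finset.sum_singleton,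
        hp.1, zero_add, hp.2.1, hq.1, hq.2.1]
      ring
    · rw [coeff_mul]
      refine Ideal.sum_mem _ fun k hk => ?_
      by_cases hk1 : k.1 = 0
      · have : k.2 ≠ 0 := fun h2 => hn (by
          rw [← Finset.HasAntidiagonal.mem_antidiagonal.1 hk, hk1, h2])
        exact Ideal.mul_mem_left _ _ (hq.2.2 _ this)
      · exact Ideal.mul_mem_right _ _ (hp.2.2 _ hk1)

theorem exists_tensor {z : B} (hz : z ∈ I.map (algebraMap A B)) : ∃ t, mulMap I B t = z := by
  induction hz using Submodule.span_induction with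
  | mem z hz =>
    obtain ⟨a, ha, rfl⟩ := hz
    exact ⟨(⟨a, ha⟩ : I) ⊗ₜ (1 : B), by rw [mulMap_tmul, mul_one]⟩
  | zero => exact ⟨0, map_zero _⟩
  | add p q _ _ hp hq =>
    obtain ⟨s, rfl⟩ := hp
    obtain ⟨t, rfl⟩ := hq
    exact ⟨s + t, map_add _ _ _⟩
  | smul c p _ hp =>
    obtain ⟨t, rfl⟩ := hp
    exact ⟨(LinearMap.mulLeft A c).lTensor I t, by rw [mulMap_lTensor, smul_eq_mul]⟩

/-- **Extension of divided powers**: the only obstruction is that the kernel of `I ⊗ B → B` has trivial
exponential. -/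
theorem exists_extension (h : ∀ t, mulMap I B t = 0 → expT γ B t = 1) :
    ∃ δ : DividedPowers (I.map (algebraMap A B)), γ.IsDPMorphism δ (algebraMap A B) := by
  classical
  choose τ hτ using fun z (hz : z ∈ I.map (algebraMap A B)) => exists_tensor (I := I) B hz
  let E : B → B⟦X⟧ := fun z => if hz : z ∈ I.map (algebraMap A B) then expT γ B (τ z hz) else 1
  have key : ∀ t, E (mulMap I B t) = expT γ B t := by
    intro t
    have hz : mulMap I B t ∈ I.map (algebraMap A B) := by
      rw [← (coeff_expT γ B t).2.1]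
      exact (coeff_expT γ B t).2.2 1 one_ne_zero
    show (if hz : mulMap I B t ∈ I.map (algebraMap A B) then _ else _) = _
    rw [dif_pos hz]
    have h1 : expT γ B (τ _ hz - t) = 1 := h _ (by rw [map_sub, hτ, sub_self])
    conv_lhs => rw [← sub_add_cancel (τ _ hz) t, expT_add, h1, one_mul]
  have hgen : ∀ a ∈ I, E (algebraMap A B a) = PowerSeries.map (algebraMap A B) (γ.exp a) := by
    intro a ha
    rw [show algebraMap A B a = mulMap I B ((⟨a, ha⟩ : I) ⊗ₜ (1 : B)) by rw [mulMap_tmul, mul_one],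
      key, expT_tmul, expBase, rescale_one]
    rfl
  refine Exists.elim (exists_of_series (I.map (algebraMap A B)) E ?_ ?_ ?_ ?_ ?_
    (algebraMap A B '' I) rfl ?_ ?_) fun δ hδ => ⟨δ, le_refl _, fun {n} a ha => by
      rw [hδ n _ (Ideal.mem_map_of_mem _ ha), hgen a ha, coeff_map, coeff_exp]⟩
  · intro z hz
    obtain ⟨t, rfl⟩ := exists_tensor (I := I) B hz
    rw [key]; exact (coeff_expT γ B t).1
  · intro z hz
    obtain ⟨t, rfl⟩ := exists_tensor (I := I) B hz
    rw [key]; exact (coeff_expT γ B t).2.1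
  · intro n z hn hz
    obtain ⟨t, rfl⟩ := exists_tensor (I := I) B hz
    rw [key]; exact (coeff_expT γ B t).2.2 n hn
  · intro z hz w hw
    obtain ⟨s, rfl⟩ := exists_tensor (I := I) B hz
    obtain ⟨t, rfl⟩ := exists_tensor (I := I) B hw
    rw [← map_add, key, key, key, expT_add]
  · intro c z hz
    obtain ⟨t, rfl⟩ := exists_tensor (I := I) B hz
    rw [← mulMap_lTensor, key, key, expT_lTensor]
  · rintro _ ⟨a, ha, rfl⟩ m n
    rw [hgen a ha, coeff_map, coeff_map, coeff_map, coeff_exp, coeff_exp, coeff_exp, ← map_mul,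
      γ.mul_dpow ha, map_mul, map_natCast]
  · rintro _ ⟨a, ha, rfl⟩ m n hn
    rw [hgen a ha, coeff_map, coeff_map, coeff_exp, coeff_exp, hgen _ (γ.dpow_mem hn ha), coeff_map,
      coeff_exp, γ.dpow_comp hn ha, map_mul, map_natCast]

theorem exists_extension_of_flat [Module.Flat A B] :
    ∃ δ : DividedPowers (I.map (algebraMap A B)), γ.IsDPMorphism δ (algebraMap A B) := by
  refine exists_extension γ B fun t ht => ?_
  have hinj : Function.Injective (mulMap I B) := by
    have he : mulMap I B = (TensorProduct.lid A B).toLinearMap.comp (I.subtype.rTensor B) := by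
      refine TensorProduct.ext' fun i b => ?_
      rw [mulMap_tmul, LinearMap.comp_apply, LinearMap.rTensor_tmul, LinearEquiv.coe_coe,
        TensorProduct.lid_tmul, Algebra.smul_def]
      rfl
    rw [he]
    exact (TensorProduct.lid A B).injective.comp
      (Module.Flat.rTensor_preserves_injective_linearMap _ I.injective_subtype)
  rw [hinj (ht.trans (map_zero _).symm), expT_zero]

theorem exists_extension_of_principal (x : A) (γ : DividedPowers (Ideal.span {x})) :
    ∃ δ : DividedPowers ((Ideal.span {x}).map (algebraMap A B)), γ.IsDPMorphism δ (algebraMap A B) := by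
  refine exists_extension γ B fun t ht => ?_
  let x' : Ideal.span {x} := ⟨x, Ideal.mem_span_singleton_self x⟩
  have hall : ∀ s : Ideal.span {x} ⊗[A] B, ∃ b : B, s = x' ⊗ₜ b := fun s => by
    induction s using TensorProduct.induction_on with
    | zero => exact ⟨0, (tmul_zero _ _).symm⟩
    | tmul i b =>
      obtain ⟨c, hc⟩ := Ideal.mem_span_singleton'.1 i.2
      refine ⟨c • b, ?_⟩
      rw [← smul_tmul, show c • x' = i from Subtype.ext hc]
    | add p q hp hq =>
      obtain ⟨b, rfl⟩ := hp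
      obtain ⟨b', rfl⟩ := hq
      exact ⟨b + b', (tmul_add _ _ _).symm⟩
  obtain ⟨b, rfl⟩ := hall t
  rw [mulMap_tmul] at ht
  rw [expT_tmul]
  ext n
  rw [coeff_expBase, coeff_one]
  rcases eq_or_ne n 0 with rfl | hn
  · rw [γ.dpow_zero x'.2, pow_zero, one_mul, map_one, if_pos rfl]
  · rw [if_neg hn]
    obtain ⟨c, hc⟩ := Ideal.mem_span_singleton'.1 (γ.dpow_mem hn x'.2)
    obtain ⟨m, rfl⟩ := Nat.exists_eq_succ_of_ne_zero hn
    rw [show γ.dpow m.succ (x' : A) = c * x from hc.symm, pow_succ, map_mul]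
    linear_combination (b ^ m * algebraMap A B c) * ht

theorem extension_unique {δ δ' : DividedPowers (I.map (algebraMap A B))}
    (h : γ.IsDPMorphism δ (algebraMap A B)) (h' : γ.IsDPMorphism δ' (algebraMap A B)) : δ = δ' := by
  refine (DividedPowers.dpow_eq_from_gens δ δ' (S := algebraMap A B '' I) rfl ?_).symm
  rintro n _ ⟨a, ha, rfl⟩
  rw [h.dpow_comp a ha, h'.dpow_comp a ha]

end baseChange

end

end Groth.Agent.DPowLib
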