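import Groth.Agent.DPowLib.Poly

/-!
# A model of the divided power polynomial algebra

The lattice spanned by `X ^ e / e!` inside `ℚ[X]`, with scalars extended to the base ring.
-/

set_option autoImplicit false
set_option linter.style.haveILetI false

universe u

open TensorProduct

namespace Groth.Agent.DPowLib.Model

noncomputable section

variable (t : ℕ)

/-- `X_l ^ n / n!`. -/
def qvar (l : Fin t) (n : ℕ) : MvPolynomial (Fin t) ℚ :=
  MvPolynomial.monomial (Finsupp.single l n) (n.factorial : ℚ)⁻¹

theorem qvar_zero (l : Fin t) : qvar t l 0 = 1 := by simp [qvar]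

theorem qvar_mul (l : Fin t) (n m : ℕ) :
    qvar t l n * qvar t l m = ((n + m).choose n : MvPolynomial (Fin t) ℚ) * qvar t l (n + m) := by
  have h : (n.factorial : ℚ)⁻¹ * (m.factorial : ℚ)⁻¹ = ((n + m).choose n : ℚ) * ((n + m).factorial : ℚ)⁻¹ := by
    rw [Nat.cast_choose ℚ (Nat.le_add_right n m), Nat.add_sub_cancel_left]
    have h1 : (((n + m).factorial : ℕ) : ℚ) ≠ 0 := Nat.cast_ne_zero.2 (Nat.factorial_ne_zero _)
    field_simp
  rw [qvar, qvar, qvar, MvPolynomial.monomial_mul, ← Finsupp.single_add, h, ← map_natCast MvPolynomial.C,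
    MvPolynomial.C_mul_monomial]

theorem mono_qvar (e : Fin t →₀ ℕ) :
    Poly.mono (qvar t) e = MvPolynomial.monomial e (Poly.fz e : ℚ)⁻¹ := by
  induction e using Finsupp.induction with
  | zero =>
    rw [Poly.mono_zero, show Poly.fz (0 : Fin t →₀ ℕ) = 1 from Finsupp.prod_zero_index, Nat.cast_one, inv_one,
      MvPolynomial.monomial_zero', map_one]
  | single_add l a f hl ha ih =>
    have hfl : f l = 0 := Finsupp.notMem_support_iff.1 hl
    have her : Finsupp.erase l (Finsupp.single l a + f) = f := by
      rw [Finsupp.erase_add, Finsupp.erase_single, zero_add, Finsupp.erase_of_notMem_support hl]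
    have hv : (Finsupp.single l a + f) l = a := by simp [hfl]
    rw [Poly.mono_split (qvar_zero t) _ l, her, hv, ih, qvar, MvPolynomial.monomial_mul,
      Poly.fz_split (Finsupp.single l a + f) l, her, hv, Nat.cast_mul, mul_inv]

theorem li_qmono : LinearIndependent ℤ (Poly.mono (qvar t)) := by
  refine linearIndependent_iff.2 fun c hc => Finsupp.ext fun e => ?_
  have h := congrArg (MvPolynomial.coeff e) hc
  rw [Finsupp.linearCombination_apply, Finsupp.sum, MvPolynomial.coeff_sum, MvPolynomial.coeff_zero,
    Finset.sum_eq_single e] at h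
  · rw [MvPolynomial.coeff_smul, mono_qvar, MvPolynomial.coeff_monomial, if_pos rfl, zsmul_eq_mul] at h
    exact_mod_cast (mul_eq_zero.1 h).resolve_right (inv_ne_zero (Poly.fz_ne' e))
  · intro f _ hf
    rw [MvPolynomial.coeff_smul, mono_qvar, MvPolynomial.coeff_monomial, if_neg hf, smul_zero]
  · intro hn
    rw [Finsupp.notMem_support_iff.1 hn, zero_smul, MvPolynomial.coeff_zero]

/-- The lattice. -/
def lattice : Subalgebra ℤ (MvPolynomial (Fin t) ℚ) :=
  (Submodule.span ℤ (Set.range (Poly.mono (qvar t)))).toSubalgebra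
    (Submodule.subset_span (s := Set.range (Poly.mono (qvar t))) ⟨0, Poly.mono_zero _⟩)
    (fun a c ha hc => by
      induction ha, hc using Submodule.span_induction₂ with
      | mem_mem a c ha hc =>
        obtain ⟨e, rfl⟩ := ha
        obtain ⟨f, rfl⟩ := hc
        obtain ⟨k, hk, -⟩ := Poly.mono_mul (qvar_zero t) (qvar_mul t) f e
        rw [hk, ← nsmul_eq_mul]
        exact nsmul_mem (show Poly.mono (qvar t) (e + f) ∈ Submodule.span ℤ (Set.range (Poly.mono (qvar t)))
          from Submodule.subset_span ⟨e + f, rfl⟩) k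
      | zero_left y hy => rw [zero_mul]; exact zero_mem _
      | zero_right x hx => rw [mul_zero]; exact zero_mem _
      | add_left x y z _ _ _ h1 h2 => rw [add_mul]; exact add_mem h1 h2
      | add_right x y z _ _ _ h1 h2 => rw [mul_add]; exact add_mem h1 h2
      | smul_left r x y _ _ h => rw [smul_mul_assoc]; exact Submodule.smul_mem _ r h
      | smul_right r x y _ _ h => rw [mul_smul_comm]; exact Submodule.smul_mem _ r h)

theorem mem_lattice {z : MvPolynomial (Fin t) ℚ} :
    z ∈ lattice t ↔ z ∈ Submodule.span ℤ (Set.range (Poly.mono (qvar t))) := Iff.rfl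

/-- `X_l ^ n / n!` in the lattice. -/
def lvar (l : Fin t) (n : ℕ) : lattice t :=
  ⟨qvar t l n, (mem_lattice t).2 (Submodule.subset_span
    ⟨Finsupp.single l n, Poly.mono_single (qvar_zero t) l n⟩)⟩

theorem coe_mono (e : Fin t →₀ ℕ) :
    ((Poly.mono (lvar t) e : lattice t) : MvPolynomial (Fin t) ℚ) = Poly.mono (qvar t) e := by
  show (lattice t).val (e.prod fun l k => lvar t l k) = _
  rw [map_finsuppProd]
  rfl

/-- The monomial basis. -/
def latticeBasis : Module.Basis (Fin t →₀ ℕ) ℤ (lattice t) :=
  Module.Basis.mk (v := Poly.mono (lvar t))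
    (LinearIndependent.of_comp (lattice t).val.toLinearMap (by
      have h : ((lattice t).val.toLinearMap : lattice t → MvPolynomial (Fin t) ℚ) ∘ Poly.mono (lvar t) =
          Poly.mono (qvar t) := funext (coe_mono t)
      rw [h]
      exact li_qmono t))
    (by
      rintro ⟨z, hz⟩ -
      have hz' := (mem_lattice t).1 hz
      suffices ∀ z, ∀ h : z ∈ Submodule.span ℤ (Set.range (Poly.mono (qvar t))),
          (⟨z, (mem_lattice t).2 h⟩ : lattice t) ∈ Submodule.span ℤ (Set.range (Poly.mono (lvar t))) from
        this z hz'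
      intro z h
      induction h using Submodule.span_induction with
      | mem g hg =>
        obtain ⟨e, rfl⟩ := hg
        exact Submodule.subset_span ⟨e, Subtype.ext (coe_mono t e)⟩
      | zero => exact zero_mem _
      | add a c ha hc ha' hc' => exact add_mem ha' hc'
      | smul r a ha ha' => exact Submodule.smul_mem _ r ha')

variable (A : Type u) [CommRing A]

/-- The variables. -/
def var (l : Fin t) (n : ℕ) : A ⊗[ℤ] lattice t := Algebra.TensorProduct.includeRight (lvar t l n)

/-- The basis of `A⟨X_1, …, X_t⟩`. -/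
def basis : Module.Basis (Fin t →₀ ℕ) A (A ⊗[ℤ] lattice t) :=
  Algebra.TensorProduct.basis A (latticeBasis t)

theorem isPoly : Poly.IsPoly (var t A) (basis t A) where
  zero l := by
    show Algebra.TensorProduct.includeRight (lvar t l 0) = 1
    rw [show lvar t l 0 = 1 from Subtype.ext (qvar_zero t l), map_one]
  mul l n m := by
    show Algebra.TensorProduct.includeRight (lvar t l n) * Algebra.TensorProduct.includeRight (lvar t l m) = _
    rw [← map_mul, show lvar t l n * lvar t l m = ((n + m).choose n : lattice t) * lvar t l (n + m) from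
      Subtype.ext (by push_cast; exact qvar_mul t l n m), map_mul, map_natCast]
    rfl
  basis e := by
    rw [basis, Algebra.TensorProduct.basis_apply, latticeBasis, Module.Basis.mk_apply]
    exact map_finsuppProd (Algebra.TensorProduct.includeRight (R := ℤ) (A := A)) e fun l k => lvar t l k

end

end Groth.Agent.DPowLib.Model
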