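import Groth.Agent.DPowLib.Ext

/-!
# Divided powers on a divided power polynomial algebra

An algebra with elements `x l n` multiplying like divided powers whose monomials form a basis.  A
natural multiple `k * mono e` is recorded by the rational number `k / ∏ (e l)!`.
-/

set_option autoImplicit false
set_option maxHeartbeats 400000
set_option linter.style.haveILetI false
set_option linter.unusedSectionVars false

universe u v w

open Finset PowerSeries

namespace Groth.Agent.DPowLib.Poly

noncomputable section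

/-- The product of the factorials of the exponents. -/
def fz {σ : Type w} (e : σ →₀ ℕ) : ℕ := e.prod fun _ k => k.factorial

theorem fz_ne {σ : Type w} (e : σ →₀ ℕ) : fz e ≠ 0 :=
  Finset.prod_ne_zero_iff.2 fun _ _ => Nat.factorial_ne_zero _

theorem fz_ne' {σ : Type w} (e : σ →₀ ℕ) : (fz e : ℚ) ≠ 0 := Nat.cast_ne_zero.2 (fz_ne e)

section mono

variable {σ : Type w} {S : Type v} [CommRing S] (y : σ → ℕ → S)

/-- The monomials. -/
def mono (e : σ →₀ ℕ) : S := e.prod fun l k => y l k

theorem mono_zero : mono y (0 : σ →₀ ℕ) = 1 := Finsupp.prod_zero_index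

variable {y} (h0 : ∀ l, y l 0 = 1)
  (hm : ∀ l n m, y l n * y l m = ((n + m).choose n : S) * y l (n + m))

include h0 in
theorem mono_single (l : σ) (a : ℕ) : mono y (Finsupp.single l a) = y l a :=
  Finsupp.prod_single_index (h0 l)

include h0 in
theorem mono_split (e : σ →₀ ℕ) (l : σ) : mono y e = y l (e l) * mono y (Finsupp.erase l e) :=
  (Finsupp.mul_prod_erase' e l (fun l k => y l k) h0).symm

theorem fz_split (e : σ →₀ ℕ) (l : σ) : fz e = (e l).factorial * fz (Finsupp.erase l e) :=
  (Finsupp.mul_prod_erase' e l (fun _ k => k.factorial) fun _ => Nat.factorial_zero).symm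

theorem fz_single (l : σ) (a : ℕ) : fz (Finsupp.single l a) = a.factorial :=
  Finsupp.prod_single_index Nat.factorial_zero

theorem erase_add_single (e : σ →₀ ℕ) (l : σ) (a : ℕ) :
    Finsupp.erase l (e + Finsupp.single l a) = Finsupp.erase l e := by
  rw [Finsupp.erase_add, Finsupp.erase_single, add_zero]

include h0 hm in
theorem mono_mul : ∀ f e : σ →₀ ℕ, ∃ k : ℕ, mono y e * mono y f = (k : S) * mono y (e + f) ∧
    k * (fz e * fz f) = fz (e + f) := by
  intro f
  induction f using Finsupp.induction with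
  | zero => exact fun e => ⟨1, by rw [mono_zero, mul_one, add_zero, Nat.cast_one, one_mul],
      by rw [add_zero, show fz (0 : σ →₀ ℕ) = 1 from Finsupp.prod_zero_index, mul_one, one_mul]⟩
  | single_add l a f hl ha ih =>
    intro e
    have hfl : f l = 0 := Finsupp.notMem_support_iff.1 hl
    have her : Finsupp.erase l (Finsupp.single l a + f) = f := by
      rw [Finsupp.erase_add, Finsupp.erase_single, zero_add, Finsupp.erase_of_notMem_support hl]
    have hv : (Finsupp.single l a + f) l = a := by simp [hfl]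
    have hv' : (e + Finsupp.single l a) l = e l + a := by simp
    obtain ⟨k, hk, hk'⟩ := ih (e + Finsupp.single l a)
    refine ⟨(e l + a).choose (e l) * k, ?_, ?_⟩
    · rw [mono_split h0 (Finsupp.single l a + f) l, her, hv, ← add_assoc, Nat.cast_mul, mul_assoc, ← hk,
        mono_split h0 (e + Finsupp.single l a) l, hv', erase_add_single, mono_split h0 e l]
      linear_combination (mono y (Finsupp.erase l e) * mono y f) * hm l (e l) a
    · rw [fz_split (Finsupp.single l a + f) l, her, hv, ← add_assoc, ← hk',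
        fz_split (e + Finsupp.single l a) l, hv', erase_add_single, fz_split e l,
        ← Nat.add_choose_mul_factorial_mul_factorial (e l) a, Nat.choose_symm_add]
      ring

variable (y) in
/-- `v` is a natural multiple of `mono e` of value `q`. -/
def Is (v : S) (e : σ →₀ ℕ) (q : ℚ) : Prop := ∃ k : ℕ, v = (k : S) * mono y e ∧ (k : ℚ) = q * fz e

theorem Is.ext {v v' : S} {e : σ →₀ ℕ} {q : ℚ} (h : Is y v e q) (h' : Is y v' e q) : v = v' := by
  obtain ⟨k, hk, hq⟩ := h
  obtain ⟨k', hk', hq'⟩ := h'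
  rw [hk, hk', show k = k' by exact_mod_cast hq.trans hq'.symm]

theorem Is.congr {v : S} {e e' : σ →₀ ℕ} {q q' : ℚ} (h : Is y v e q) (he : e = e') (hq : q = q') :
    Is y v e' q' := he ▸ hq ▸ h

theorem is_mono (e : σ →₀ ℕ) : Is y (mono y e) e (fz e : ℚ)⁻¹ :=
  ⟨1, by rw [Nat.cast_one, one_mul], by rw [Nat.cast_one, inv_mul_cancel₀ (fz_ne' e)]⟩

theorem is_one : Is y (1 : S) 0 1 :=
  ⟨1, by rw [Nat.cast_one, one_mul, mono_zero],
    by rw [show fz (0 : σ →₀ ℕ) = 1 from Finsupp.prod_zero_index, one_mul]⟩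

theorem Is.natMul {v : S} {e : σ →₀ ℕ} {q : ℚ} (h : Is y v e q) (c : ℕ) :
    Is y ((c : S) * v) e (c * q) := by
  obtain ⟨k, hk, hq⟩ := h
  exact ⟨c * k, by rw [hk, Nat.cast_mul, mul_assoc], by rw [Nat.cast_mul, hq, mul_assoc]⟩

include h0 in
theorem is_var (l : σ) (a : ℕ) : Is y (y l a) (Finsupp.single l a) (a.factorial : ℚ)⁻¹ := by
  have := is_mono (y := y) (Finsupp.single l a)
  rwa [mono_single h0, fz_single] at this

include h0 hm in
theorem Is.mul {v v' : S} {e e' : σ →₀ ℕ} {q q' : ℚ} (h : Is y v e q) (h' : Is y v' e' q') :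
    Is y (v * v') (e + e') (q * q') := by
  obtain ⟨k, hk, hq⟩ := h
  obtain ⟨k', hk', hq'⟩ := h'
  obtain ⟨N, hN, hN'⟩ := mono_mul h0 hm e' e
  refine ⟨k * k' * N, ?_, ?_⟩
  · rw [hk, hk', Nat.cast_mul, Nat.cast_mul]
    linear_combination ((k : S) * k') * hN
  · rw [← hN', Nat.cast_mul, Nat.cast_mul, Nat.cast_mul, Nat.cast_mul, hq, hq']
    ring

include h0 hm in
theorem Is.pow {v : S} {e : σ →₀ ℕ} {q : ℚ} (h : Is y v e q) : ∀ n : ℕ, Is y (v ^ n) (n • e) (q ^ n)
  | 0 => by rw [pow_zero, pow_zero, zero_nsmul]; exact is_one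
  | n + 1 => by rw [pow_succ, pow_succ, succ_nsmul]; exact Is.mul h0 hm (Is.pow h n) h

include h0 hm in
theorem exists_dpMono (e : σ →₀ ℕ) (n : ℕ) :
    ∃ v : S, e ≠ 0 → Is y v (n • e) (((fz e : ℚ)⁻¹) ^ n / n.factorial) := by
  by_cases he : e = 0
  · exact ⟨0, fun h => absurd he h⟩
  obtain ⟨l, hl⟩ := Finsupp.support_nonempty_iff.2 he
  have ha : e l ≠ 0 := Finsupp.mem_support_iff.1 hl
  refine ⟨mono y (Finsupp.erase l e) ^ n * ((Nat.uniformBell n (e l) : S) * y l (n * e l)),
    fun _ => ?_⟩
  refine (Is.mul h0 hm (Is.pow h0 hm (is_mono (Finsupp.erase l e)) n)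
    (Is.natMul (is_var h0 l (n * e l)) (Nat.uniformBell n (e l)))).congr ?_ ?_
  · conv_rhs => rw [← Finsupp.erase_add_single l e, smul_add, Finsupp.smul_single, smul_eq_mul]
  · rw [fz_split e l, ← Nat.uniformBell_mul_eq n ha]
    have := fz_ne' (Finsupp.erase l e)
    have h1 : ((Nat.uniformBell n (e l) : ℕ) : ℚ) ≠ 0 := by
      refine Nat.cast_ne_zero.2 fun hB => Nat.factorial_ne_zero (n * e l) ?_
      rw [← Nat.uniformBell_mul_eq n ha, hB, zero_mul, zero_mul]
    push_cast
    simp only [div_eq_mul_inv, mul_pow, inv_pow, mul_inv_rev, inv_inv, ← pow_mul]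
    field_simp

end mono

variable {R : Type u} [CommRing R] {σ : Type w} {P : Type v} [CommRing P] [Algebra R P]
  {x : σ → ℕ → P} (b : Module.Basis (σ →₀ ℕ) R P)

/-- Induction along the basis. -/
theorem basis_induction {p : P → Prop} (a : P) (h0 : p 0) (hadd : ∀ u v, p u → p v → p (u + v))
    (hsingle : ∀ (c : R) (e : σ →₀ ℕ), p (c • b e)) : p a := by
  rw [← b.repr.symm_apply_apply a]
  induction b.repr a using Finsupp.induction_linear with
  | zero => rwa [map_zero]
  | add f g hf hg => rw [map_add]; exact hadd _ _ hf hg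
  | single e c => rw [Module.Basis.repr_symm_single]; exact hsingle c e

variable (x) in
/-- The hypotheses on a divided power polynomial algebra. -/
structure IsPoly : Prop where
  zero : ∀ l, x l 0 = 1
  mul : ∀ l n m, x l n * x l m = ((n + m).choose n : P) * x l (n + m)
  basis : ∀ e : σ →₀ ℕ, b e = e.prod (fun l k => x l k)

variable {b} (H : IsPoly x b)

include H in
theorem IsPoly.b_eq (e : σ →₀ ℕ) : b e = mono x e := H.basis e

include H in
/-- The algebra homomorphism attached to a family multiplying like divided powers. -/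
theorem exists_lift {S : Type*} [CommRing S] [Algebra R S] {y : σ → ℕ → S} (h0 : ∀ l, y l 0 = 1)
    (hm : ∀ l n m, y l n * y l m = ((n + m).choose n : S) * y l (n + m)) :
    ∃ φ : P →ₐ[R] S, ∀ e, φ (mono x e) = mono y e := by
  let f : P →ₗ[R] S := b.constr R (mono y)
  have hf : ∀ e, f (mono x e) = mono y e := fun e => by rw [← H.b_eq]; exact b.constr_basis R _ e
  have hnat : ∀ (k : ℕ) (z : P), f ((k : P) * z) = (k : S) * f z := fun k z => by
    rw [← nsmul_eq_mul, map_nsmul, nsmul_eq_mul]
  have hmul : ∀ u v, f (u * v) = f u * f v := by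
    intro u v
    induction u using basis_induction b with
    | h0 => rw [zero_mul, map_zero, zero_mul]
    | hadd p q hp hq => rw [add_mul, map_add, map_add, add_mul, hp, hq]
    | hsingle c e =>
      induction v using basis_induction b with
      | h0 => rw [mul_zero, map_zero, mul_zero]
      | hadd p q hp hq => rw [mul_add, map_add, map_add, mul_add, hp, hq]
      | hsingle c' e' =>
        obtain ⟨k, hk, hk'⟩ := mono_mul H.zero H.mul e' e
        obtain ⟨k₂, hk₂, hk₂'⟩ := mono_mul h0 hm e' e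
        have hkk : k = k₂ :=
          mul_right_cancel₀ (Nat.mul_ne_zero (fz_ne e) (fz_ne e')) (hk'.trans hk₂'.symm)
        rw [H.b_eq, H.b_eq, smul_mul_smul_comm, hk, map_smul, hnat, hf, map_smul, map_smul, hf, hf,
          smul_mul_smul_comm, hk₂, hkk]
  have hone : f 1 = 1 := by
    rw [← mono_zero x, hf, mono_zero]
  exact ⟨AlgHom.ofLinearMap f hone hmul, hf⟩

variable (x) in
/-- The ideal of positive degree. -/
def Pplus : Ideal P := Ideal.span {y : P | ∃ (l : σ) (n : ℕ), 1 ≤ n ∧ y = x l n}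

theorem var_mem (l : σ) {n : ℕ} (hn : n ≠ 0) : x l n ∈ Pplus x :=
  Ideal.subset_span ⟨l, n, Nat.one_le_iff_ne_zero.2 hn, rfl⟩

include H in
theorem mono_mem {e : σ →₀ ℕ} (he : e ≠ 0) : mono x e ∈ Pplus x := by
  obtain ⟨l, hl⟩ := Finsupp.support_nonempty_iff.2 he
  rw [mono_split H.zero e l]
  exact Ideal.mul_mem_right _ _ (var_mem l (Finsupp.mem_support_iff.1 hl))

theorem smul_ne_zero' {e : σ →₀ ℕ} (he : e ≠ 0) {n : ℕ} (hn : n ≠ 0) : n • e ≠ 0 := by
  intro h
  refine he (Finsupp.ext fun l => ?_)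
  have := DFunLike.congr_fun h l
  simpa [hn] using this

theorem single_ne (l : σ) {a : ℕ} (ha : a ≠ 0) : Finsupp.single l a ≠ 0 := by simpa using ha

include H in
/-- **Divided powers on the divided power polynomial algebra.** -/
theorem exists_dp : ∃ γ : DividedPowers (Pplus x), ∀ (l : σ) (n : ℕ), γ.dpow n (x l 1) = x l n := by
  classical
  have Hz := H.zero
  have Hm := H.mul
  choose D hD using fun (e : σ →₀ ℕ) (n : ℕ) => exists_dpMono Hz Hm e n
  have D0 : ∀ e, e ≠ 0 → D e 0 = 1 := fun e he =>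
    (hD e 0 he).ext (is_one.congr (zero_nsmul e).symm (by simp))
  have D1 : ∀ e, e ≠ 0 → D e 1 = mono x e := fun e he =>
    (hD e 1 he).ext ((is_mono e).congr (one_nsmul e).symm (by simp))
  have Dmul : ∀ e, e ≠ 0 → ∀ m n, D e m * D e n = ((m + n).choose m : P) * D e (m + n) := by
    intro e he m n
    refine ((Is.mul Hz Hm (hD e m he) (hD e n he)).congr (add_nsmul e m n).symm ?_).ext
      (Is.natMul (hD e (m + n) he) _)
    rw [Nat.cast_choose ℚ (Nat.le_add_right m n), Nat.add_sub_cancel_left, pow_add]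
    have h1 : (((m + n).factorial : ℕ) : ℚ) ≠ 0 := Nat.cast_ne_zero.2 (Nat.factorial_ne_zero _)
    field_simp
  let F : (σ →₀ ℕ) → P⟦X⟧ := fun e => if e = 0 then 1 else PowerSeries.mk (D e)
  have hF : ∀ e, e ≠ 0 → ∀ n, coeff n (F e) = D e n := fun e he n => by
    simp only [F, if_neg he, coeff_mk]
  have hF0 : ∀ e, coeff 0 (F e) = 1 := fun e => by
    by_cases he : e = 0
    · simp [F, he]
    · rw [hF e he, D0 e he]
  have hFrule : ∀ e, ∀ a a' : P, rescale (a + a') (F e) = rescale a (F e) * rescale a' (F e) := by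
    intro e a a'
    by_cases he : e = 0
    · simp [F, he]
    · exact rescale_add_mul (fun m n => by rw [hF e he, hF e he, hF e he, Dmul e he]) a a'
  have hres0 : ∀ e, rescale (0 : P) (F e) = 1 := fun e => by
    ext n
    rw [coeff_rescale, coeff_one]
    rcases eq_or_ne n 0 with rfl | hn
    · rw [pow_zero, one_mul, hF0, if_pos rfl]
    · rw [zero_pow hn, zero_mul, if_neg hn]
  let E : P → P⟦X⟧ := fun z => (b.repr z).prod fun e c => rescale (algebraMap R P c) (F e)
  have E_add : ∀ u v, E (u + v) = E u * E v := fun u v => by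
    simp only [E, map_add]
    exact Finsupp.prod_add_index' (fun e => by rw [map_zero, hres0]) fun e c c' => by
      rw [map_add, hFrule]
  have E_single : ∀ (c : R) e, E (c • mono x e) = rescale (algebraMap R P c) (F e) := fun c e => by
    simp only [E, ← H.b_eq, map_smul, Module.Basis.repr_self, Finsupp.smul_single, smul_eq_mul, mul_one]
    exact Finsupp.prod_single_index (by rw [map_zero, hres0])
  have E_zero : E 0 = 1 := by simp only [E, map_zero]; exact Finsupp.prod_zero_index
  have E_mono : ∀ e, E (mono x e) = F e := fun e => by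
    have := E_single 1 e
    rwa [one_smul, map_one, rescale_one] at this
  have E0 : ∀ z, coeff 0 (E z) = 1 := fun z => by
    induction z using basis_induction b with
    | h0 => rw [E_zero]; simp
    | hadd u v hu hv =>
      rw [E_add, coeff_mul, Finset.Nat.antidiagonal_zero, Finset.sum_singleton, hu, hv, one_mul]
    | hsingle c e => rw [H.b_eq, E_single, coeff_rescale, pow_zero, one_mul, hF0]
  have E_gen : ∀ (a : P) e, e ≠ 0 → E (a * mono x e) = rescale a (F e) := by
    intro a e he
    induction a using basis_induction b with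
    | h0 => rw [zero_mul, E_zero, hres0]
    | hadd u v hu hv => rw [add_mul, E_add, hu, hv, hFrule]
    | hsingle c f =>
      obtain ⟨N, hN, hN'⟩ := mono_mul Hz Hm e f
      have hfe : f + e ≠ 0 := fun h => he (add_eq_zero.1 h).2
      rw [H.b_eq, smul_mul_assoc, hN, ← nsmul_eq_mul, ← Nat.cast_smul_eq_nsmul R, smul_smul, E_single]
      ext n
      rw [coeff_rescale, coeff_rescale, hF _ hfe, hF _ he, map_mul, map_natCast, Algebra.smul_def,
        mul_pow, mul_pow, mul_assoc, mul_assoc]
      congr 1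
      rw [← Nat.cast_pow]
      refine ((Is.natMul (hD _ n hfe) _).congr (smul_add n f e) ?_).ext
        (Is.mul Hz Hm (Is.pow Hz Hm (is_mono f) n) (hD e n he))
      rw [← hN']
      have := fz_ne' f
      have := fz_ne' e
      have h1 : ((N : ℕ) : ℚ) ≠ 0 := Nat.cast_ne_zero.2 (left_ne_zero_of_mul (hN'.trans_ne (fz_ne _)))
      push_cast
      simp only [div_eq_mul_inv, mul_pow, inv_pow, mul_inv_rev, inv_inv, ← pow_mul]
      field_simp
  have E_mul : ∀ (a z : P), z ∈ Pplus x → E (a * z) = rescale a (E z) := by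
    intro a z hz
    induction hz using Submodule.span_induction generalizing a with
    | mem g hg =>
      obtain ⟨l, n, hn, rfl⟩ := hg
      rw [← mono_single Hz, E_gen a _ (single_ne l (by omega)), E_mono]
    | zero => rw [mul_zero, E_zero, map_one]
    | add u v _ _ hu hv => rw [mul_add, E_add, E_add, map_mul, hu, hv]
    | smul c u _ hu => rw [smul_eq_mul, ← mul_assoc, hu, hu c, rescale_rescale, mul_comm a c]
  have hDmem : ∀ e, e ≠ 0 → ∀ n, n ≠ 0 → D e n ∈ Pplus x := fun e he n hn => by
    obtain ⟨k, hk, -⟩ := hD e n he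
    rw [hk]
    exact Ideal.mul_mem_left _ _ (mono_mem H (smul_ne_zero' he hn))
  have hmem : ∀ (n : ℕ) (z : P), n ≠ 0 → z ∈ Pplus x → coeff n (E z) ∈ Pplus x := by
    intro n z hn hz
    induction hz using Submodule.span_induction generalizing n with
    | mem g hg =>
      obtain ⟨l, a, ha, rfl⟩ := hg
      have hs := single_ne (σ := σ) l (show a ≠ 0 by omega)
      rw [← mono_single Hz, E_mono, hF _ hs]
      exact hDmem _ hs n hn
    | zero => rw [E_zero, coeff_one, if_neg hn]; exact zero_mem _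
    | add u v _ _ hu hv =>
      rw [E_add, coeff_mul]
      refine sum_mem fun k hk => ?_
      by_cases hk1 : k.1 = 0
      · exact Ideal.mul_mem_left _ _ (hv _ (fun h2 => hn (by
          rw [← Finset.HasAntidiagonal.mem_antidiagonal.1 hk, hk1, h2])))
      · exact Ideal.mul_mem_right _ _ (hu _ hk1)
    | smul c u hu hu' =>
      rw [smul_eq_mul, E_mul c u hu, coeff_rescale]
      exact Ideal.mul_mem_left _ _ (hu' n hn)
  have hone : ∀ z ∈ Pplus x, coeff 1 (E z) = z := by
    intro z hz
    induction hz using Submodule.span_induction with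
    | mem g hg =>
      obtain ⟨l, a, ha, rfl⟩ := hg
      have hs := single_ne (σ := σ) l (show a ≠ 0 by omega)
      rw [← mono_single Hz, E_mono, hF _ hs, D1 _ hs]
    | zero => rw [E_zero, coeff_one, if_neg one_ne_zero]
    | add u v hu hv hu' hv' =>
      rw [E_add, coeff_mul, Finset.Nat.sum_antidiagonal_succ, Finset.Nat.antidiagonal_zero,
        Finset.sum_singleton, E0, zero_add, hv', hu', E0]
      ring
    | smul c u hu hu' => rw [smul_eq_mul, E_mul c u hu, coeff_rescale, pow_one, hu']
  obtain ⟨γ, hγ⟩ := exists_of_series (Pplus x) E (fun z _ => E0 z) hone hmem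
    (fun u _ v _ => E_add u v) E_mul {y : P | ∃ (l : σ) (n : ℕ), 1 ≤ n ∧ y = x l n} rfl
    (by
      rintro g ⟨l, a, ha, rfl⟩ m n
      have hs := single_ne (σ := σ) l (show a ≠ 0 by omega)
      rw [← mono_single Hz, E_mono, hF _ hs, hF _ hs, hF _ hs, Dmul _ hs])
    (by
      rintro g ⟨l, a, ha, rfl⟩ m n hn
      have hs := single_ne (σ := σ) l (show a ≠ 0 by omega)
      have hns := smul_ne_zero' hs hn
      rw [← mono_single Hz, E_mono, hF _ hs, hF _ hs]
      obtain ⟨k, hk, hk'⟩ := hD _ n hs
      rw [hk, E_gen _ _ hns, coeff_rescale, hF _ hns, ← Nat.cast_pow]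
      refine ((Is.natMul (hD _ m hns) _).congr (mul_nsmul' _ m n).symm ?_).ext
        (Is.natMul (hD _ (m * n) hs) _)
      rw [← Nat.uniformBell_mul_eq m hn]
      have := fz_ne' (Finsupp.single l a)
      have := fz_ne' (n • Finsupp.single l a)
      have h1 : ((Nat.uniformBell m n : ℕ) : ℚ) ≠ 0 := by
        refine Nat.cast_ne_zero.2 fun hB => Nat.factorial_ne_zero (m * n) ?_
        rw [← Nat.uniformBell_mul_eq m hn, hB, zero_mul, zero_mul]
      push_cast
      rw [hk']
      simp only [div_eq_mul_inv, mul_pow, inv_pow, mul_inv_rev, inv_inv, ← pow_mul, mul_comm m n]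
      field_simp)
  refine ⟨γ, fun l n => ?_⟩
  have hs := single_ne (σ := σ) l one_ne_zero
  rw [hγ n _ (var_mem l one_ne_zero), ← mono_single Hz l 1, E_mono, hF _ hs]
  refine (hD _ n hs).ext ((is_var Hz l n).congr ?_ ?_)
  · rw [Finsupp.smul_single, smul_eq_mul, mul_one]
  · rw [fz_single]; simp

variable {γ : DividedPowers (Pplus x)} (hγ : ∀ (l : σ) (n : ℕ), γ.dpow n (x l 1) = x l n)

include hγ in
theorem dpow_var (l : σ) (n k : ℕ) (hk : k ≠ 0) :
    γ.dpow n (x l k) = (Nat.uniformBell n k : P) * x l (n * k) := by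
  rw [← hγ l k, γ.dpow_comp hk (var_mem l one_ne_zero), hγ]

include H hγ in
/-- The universal property. -/
theorem existsUnique_lift {S : Type*} [CommRing S] [Algebra R S] {J : Ideal S} (δ : DividedPowers J)
    (s : σ → S) (hs : ∀ l, s l ∈ J) :
    ∃! φ : P →ₐ[R] S, γ.IsDPMorphism δ φ.toRingHom ∧ ∀ l, φ (x l 1) = s l := by
  obtain ⟨φ, hφ⟩ := exists_lift H (y := fun l n => δ.dpow n (s l)) (fun l => δ.dpow_zero (hs l))
    (fun l n m => δ.mul_dpow (hs l))
  have hv : ∀ l n, φ (x l n) = δ.dpow n (s l) := fun l n => by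
    rw [← mono_single H.zero, hφ, mono_single (fun l => δ.dpow_zero (hs l))]
  have h1 : ∀ l, φ (x l 1) = s l := fun l => by rw [hv, δ.dpow_one (hs l)]
  refine ⟨φ, ⟨?_, h1⟩, ?_⟩
  · refine DividedPowers.IsDPMorphism.on_span γ δ (S := {y : P | ∃ (l : σ) (n : ℕ), 1 ≤ n ∧ y = x l n})
      rfl ?_ ?_
    · rintro _ ⟨l, k, hk, rfl⟩
      show φ (x l k) ∈ J
      rw [hv]
      exact δ.dpow_mem (by omega) (hs l)
    · rintro n _ ⟨l, k, hk, rfl⟩
      show φ (γ.dpow n (x l k)) = δ.dpow n (φ (x l k))
      rw [dpow_var hγ l n k (by omega), map_mul, map_natCast, hv, hv, δ.dpow_comp (by omega) (hs l)]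
  · rintro ψ ⟨hψ, hψ1⟩
    have hψv : ∀ l n, ψ (x l n) = δ.dpow n (s l) := fun l n => by
      rw [← hγ l n, ← hψ1 l]
      exact (hψ.dpow_comp _ (var_mem l one_ne_zero)).symm
    refine AlgHom.ext fun z => ?_
    induction z using basis_induction b with
    | h0 => rw [map_zero, map_zero]
    | hadd u v hu hv' => rw [map_add, map_add, hu, hv']
    | hsingle c e =>
      rw [map_smul, map_smul, H.basis, map_finsuppProd, map_finsuppProd]
      simp only [hψv, hv]

include hγ in
theorem dp_unique (γ' : DividedPowers (Pplus x))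
    (hγ' : ∀ (l : σ) (n : ℕ), γ'.dpow n (x l 1) = x l n) : γ' = γ := by
  refine DividedPowers.dpow_eq_from_gens γ γ' (S := {y : P | ∃ (l : σ) (n : ℕ), 1 ≤ n ∧ y = x l n})
    rfl ?_
  rintro n _ ⟨l, k, hk, rfl⟩
  rw [dpow_var hγ l n k (by omega), dpow_var hγ' l n k (by omega)]

include H in
/-- An element of `IP ∩ P₊` lies in `IP • P₊`. -/
theorem mem_smul_of_mem_inf (I : Ideal R) {z : P}
    (hz : z ∈ I.map (algebraMap R P) ⊓ Pplus x) : z ∈ I.map (algebraMap R P) • Pplus x := by
  classical
  obtain ⟨hz1, hz2⟩ := hz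
  have hcoord : ∀ z ∈ I.map (algebraMap R P), ∀ e, b.repr z e ∈ I := by
    intro z hz
    induction hz using Submodule.span_induction with
    | mem g hg =>
      obtain ⟨r, hr, rfl⟩ := hg
      intro e
      rw [Algebra.algebraMap_eq_smul_one, map_smul, Finsupp.smul_apply, smul_eq_mul]
      exact I.mul_mem_right _ hr
    | zero => intro e; simp
    | add u v _ _ hu hv => intro e; rw [map_add, Finsupp.add_apply]; exact I.add_mem (hu e) (hv e)
    | smul c u _ hu =>
      intro e
      rw [smul_eq_mul, ← b.linearCombination_repr u, Finsupp.linearCombination_apply, Finsupp.sum,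
        Finset.mul_sum, map_sum, Finsupp.finsetSum_apply]
      refine sum_mem fun f _ => ?_
      rw [mul_smul_comm, map_smul, Finsupp.smul_apply, smul_eq_mul]
      exact I.mul_mem_right _ (hu f)
  obtain ⟨ε, hε⟩ := exists_lift H (S := R) (y := fun _ n => if n = 0 then 1 else 0) (fun l => if_pos rfl)
    (fun l n m => by rcases n with - | n <;> rcases m with - | m <;> simp)
  have h0 : ε z = 0 := by
    have : Pplus x ≤ RingHom.ker ε := Ideal.span_le.2 fun g hg => by
      obtain ⟨l, n, hn, rfl⟩ := hg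
      show ε (x l n) = 0
      rw [← mono_single H.zero, hε, mono_single (S := R) (fun _ => if_pos rfl), if_neg (by omega)]
    exact this hz2
  have hrep : b.repr z 0 = 0 := by
    rw [← b.linearCombination_repr z, Finsupp.linearCombination_apply, Finsupp.sum, map_sum,
      Finset.sum_eq_single 0] at h0
    · rwa [map_smul, H.b_eq, hε, mono_zero, smul_eq_mul, mul_one] at h0
    · intro e _ he
      obtain ⟨l, hl⟩ := Finsupp.support_nonempty_iff.2 he
      rw [map_smul, H.b_eq, hε, mono_split (S := R) (fun _ => if_pos rfl) e l,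
        if_neg (Finsupp.mem_support_iff.1 hl), zero_mul, smul_zero]
    · intro hn
      rw [Finsupp.notMem_support_iff.1 hn, zero_smul, map_zero]
  rw [← b.linearCombination_repr z, Finsupp.linearCombination_apply, Finsupp.sum]
  refine sum_mem fun e he => ?_
  have he0 : e ≠ 0 := fun h => Finsupp.mem_support_iff.1 he (h ▸ hrep)
  rw [Algebra.smul_def (b.repr z e), H.b_eq]
  exact Submodule.smul_mem_smul (Ideal.mem_map_of_mem _ (hcoord z hz1 e)) (mono_mem H he0)

include H hγ in
/-- `IP + P₊` carries a unique structure compatible with both. -/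
theorem existsUnique_sup {I : Ideal R} (g : DividedPowers I) :
    ∃! δ : DividedPowers (I.map (algebraMap R P) ⊔ Pplus x),
      g.IsDPMorphism δ (algebraMap R P) ∧
        ∀ (n : ℕ) (y : P), y ∈ Pplus x → δ.dpow n y = γ.dpow n y := by
  haveI : Module.Free R P := Module.Free.of_basis b
  obtain ⟨δI, hδI⟩ := exists_extension_of_flat g P
  obtain ⟨ε, h1, h2⟩ := exists_sup δI γ fun n z hz =>
    δI.coincide_on_smul γ (mem_smul_of_mem_inf H I hz)
  refine ⟨ε, ⟨⟨le_sup_left, fun {n} a ha => ?_⟩, h2⟩, ?_⟩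
  · rw [h1 n _ (Ideal.mem_map_of_mem _ ha), hδI.dpow_comp a ha]
  · rintro ε' ⟨hε', h2'⟩
    refine DividedPowers.dpow_eq_from_gens ε ε' (S := algebraMap R P '' I ∪ Pplus x) ?_ ?_
    · rw [Ideal.span_union, Ideal.span_eq]; rfl
    · rintro n a (⟨r, hr, rfl⟩ | ha)
      · rw [hε'.dpow_comp r hr, h1 n _ (Ideal.mem_map_of_mem _ hr), hδI.dpow_comp r hr]
      · rw [h2' n a ha]; exact h2 n a ha

end

end Groth.Agent.DPowLib.Poly
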